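import Groth.Agent.Lib.Japanese.IntegralSpec
import Mathlib.AlgebraicGeometry.Normalization
import Mathlib.AlgebraicGeometry.FunctionField
import Mathlib.RingTheory.IntegralClosure.IntegrallyClosed
import Mathlib.RingTheory.Localization.Integral
import Groth.Prelude.Def_Pi1

/-!
Normalization of an integral scheme in an arbitrary field extension of its function field.
-/

set_option autoImplicit false
set_option backward.isDefEq.respectTransparency false
universe u

open CategoryTheory Limits AlgebraicGeometry

namespace GrothLib.NormExt8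

variable {X : Scheme.{u}} [IsIntegral X] {K : Type u} [Field K] (φ : X.functionField →+* K)
  (g : Spec (CommRingCat.of K) ⟶ X)
  (hg : g = Spec.map (CommRingCat.ofHom φ) ≫ X.fromSpecStalk (genericPoint X))

include hg in
theorem apply_closedPoint : g (IsLocalRing.closedPoint K) = genericPoint X := by
  have : IsLocalHom φ := ⟨fun a ha => (map_ne_zero φ).mp ha.ne_zero |>.isUnit⟩
  subst hg
  rw [Scheme.Hom.comp_apply]
  exact (congrArg _ (Spec_closedPoint (f := CommRingCat.ofHom φ))).trans (X.fromSpecStalk_closedPoint)

variable [QuasiCompact g] [QuasiSeparated g]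

theorem toNormalization_closedPoint :
    g.toNormalization (IsLocalRing.closedPoint K) = genericPoint g.normalization := by
  refine ((genericPoint_spec g.normalization).eq ?_).symm
  have h := g.toNormalization.denseRange.closure_range
  rwa [Set.range_unique, show (default : Spec (CommRingCat.of K)) = IsLocalRing.closedPoint K from
    Subsingleton.elim _ _] at h

include hg in
theorem fromNormalization_genericPoint :
    g.fromNormalization (genericPoint g.normalization) = genericPoint X := by
  rw [← toNormalization_closedPoint g, ← Scheme.Hom.comp_apply, g.toNormalization_fromNormalization,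
    apply_closedPoint φ g hg]

include hg in
theorem preimage_genericPoint :
    g.fromNormalization.base ⁻¹' {genericPoint X} = {genericPoint g.normalization} := by
  refine Set.eq_singleton_iff_unique_mem.2 ⟨fromNormalization_genericPoint φ g hg, fun z hz => ?_⟩
  exact (Japanese.eq_of_specializes_of_isIntegralHom g.fromNormalization
    ((genericPoint_spec g.normalization).specializes trivial)
    ((fromNormalization_genericPoint φ g hg).trans hz.symm)).symm

theorem isField_stalk :
    IsField (g.normalization.presheaf.stalk (g.toNormalization (IsLocalRing.closedPoint K))) := by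
  rw [toNormalization_closedPoint g]
  exact Field.toIsField g.normalization.functionField

theorem injective_stalkClosedPointTo :
    Function.Injective (Scheme.stalkClosedPointTo g.toNormalization).hom := by
  let _ := (isField_stalk g).toField
  exact (Scheme.stalkClosedPointTo g.toNormalization).hom.injective

include hg in
/-- Sections of the normalization over an affine open, as elements of `K`, are the elements integral
over the sections of the base. -/
theorem exists_chart {U : X.Opens} (hU : IsAffineOpen U) [Nonempty U]
    (hW : g.toNormalization (IsLocalRing.closedPoint K) ∈ g.fromNormalization ⁻¹ᵁ U) :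
    let θ : Γ(g.normalization, g.fromNormalization ⁻¹ᵁ U) →+* K :=
      (g.normalization.presheaf.germ _ _ hW ≫ Scheme.stalkClosedPointTo g.toNormalization).hom
    Function.Injective θ ∧ θ.comp (g.fromNormalization.app U).hom = φ.comp (X.germToFunctionField U).hom ∧
      ∀ y : K, (φ.comp (X.germToFunctionField U).hom).IsIntegralElem y ↔ y ∈ Set.range θ := by
  intro θ
  let _ := (g.app U).hom.toAlgebra
  have hηU : g (IsLocalRing.closedPoint K) ∈ U := by
    rwa [← g.toNormalization_fromNormalization]
  let e0 : Γ(Spec (CommRingCat.of K), g ⁻¹ᵁ U) ≅ CommRingCat.of K :=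
    (Spec (CommRingCat.of K)).presheaf.mapIso
      (eqToIso (Scheme.preimage_eq_top_of_closedPoint_mem g hηU).symm).op ≪≫ Scheme.ΓSpecIso (CommRingCat.of K)
  have he : g.app U ≫ e0.hom = X.germToFunctionField U ≫ CommRingCat.ofHom φ := by
    have : IsLocalHom (CommRingCat.ofHom φ).hom := ⟨fun a ha => (map_ne_zero φ).mp ha.ne_zero |>.isUnit⟩
    refine (Scheme.germ_stalkClosedPointTo g U hηU).symm.trans ?_
    subst hg
    exact Scheme.germ_stalkClosedPointTo_Spec_fromSpecStalk (CommRingCat.ofHom φ) U hηU
  have hθ : CommRingCat.ofHom θ = (g.normalizationObjIso hU).hom ≫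
      CommRingCat.ofHom (integralClosure Γ(X, U) Γ(Spec (CommRingCat.of K), g ⁻¹ᵁ U)).val.toRingHom ≫
        e0.hom := by
    show g.normalization.presheaf.germ _ _ hW ≫ Scheme.stalkClosedPointTo g.toNormalization = _
    rw [Scheme.germ_stalkClosedPointTo, g.toNormalization_app_preimage ⟨U, hU⟩]
    simp only [Category.assoc, e0, Iso.trans_hom, Functor.mapIso_hom, Iso.op_hom, eqToIso.hom,
      ← Functor.map_comp_assoc, eqToHom_op, eqToHom_trans]
    rfl
  let eB := e0.commRingCatIsoToRingEquiv
  let eN := (g.normalizationObjIso hU).commRingCatIsoToRingEquiv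
  have hval : ∀ w, θ w = eB (eN w).1 := fun w => congrArg (fun p => p.hom w) hθ
  have hcomp : θ.comp (g.fromNormalization.app U).hom = φ.comp (X.germToFunctionField U).hom := by
    refine RingHom.ext fun a => ?_
    refine Eq.trans ?_ (congrArg (fun p => p.hom a) he)
    show θ (g.fromNormalization.app U a) = eB (g.app U a)
    rw [hval, g.fromNormalization_app hU]
    refine congrArg eB ?_
    show ((g.normalizationObjIso hU).hom ((g.normalizationObjIso hU).inv
      (algebraMap Γ(X, U) (integralClosure Γ(X, U) Γ(Spec (CommRingCat.of K), g ⁻¹ᵁ U)) a))).1 = _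
    rw [← ConcreteCategory.comp_apply, Iso.inv_hom_id]
    rfl
  have hinj : Function.Injective θ := fun a b hab => by
    rw [hval, hval] at hab
    exact eN.injective (Subtype.ext (eB.injective hab))
  refine ⟨hinj, hcomp, fun y => ⟨fun hy => ?_, ?_⟩⟩
  · have hc : eB.symm.toRingHom.comp (φ.comp (X.germToFunctionField U).hom) = (g.app U).hom :=
      RingHom.ext fun a => eB.injective
        ((eB.apply_symm_apply _).trans (congrArg (fun p => p.hom a) he).symm)
    obtain ⟨p, hp, hp0⟩ := hy
    have hint : IsIntegral Γ(X, U) (eB.symm y) := by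
      refine ⟨p, hp, ?_⟩
      show p.eval₂ (g.app U).hom _ = 0
      rw [← hc]
      exact (Polynomial.hom_eval₂ p _ eB.symm.toRingHom y).symm.trans (by rw [hp0, map_zero])
    refine ⟨eN.symm ⟨eB.symm y, hint⟩, ?_⟩
    rw [hval, eN.apply_symm_apply]
    exact eB.apply_symm_apply y
  · rintro ⟨w, rfl⟩
    obtain ⟨p, hp, hp0⟩ := (eN w).2
    refine ⟨p, hp, ?_⟩
    have hc : eB.toRingHom.comp (g.app U).hom = φ.comp (X.germToFunctionField U).hom :=
      RingHom.ext fun a => congrArg (fun p => p.hom a) he
    rw [hval, ← hc]
    exact (Polynomial.hom_eval₂ p _ eB.toRingHom (eN w).1).symm.trans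
      (by rw [show Polynomial.eval₂ (g.app U).hom (eN w).1 p = 0 from hp0, map_zero])

include hg in
theorem isNormalScheme : Pi1.IsNormalScheme g.normalization := by
  intro z
  obtain ⟨U, hU, hzU, -⟩ := exists_isAffineOpen_mem_and_subset (U := (⊤ : X.Opens))
    (x := g.fromNormalization z) trivial
  have : Nonempty U := ⟨⟨_, hzU⟩⟩
  let W := g.fromNormalization ⁻¹ᵁ U
  have : Nonempty W := ⟨⟨z, hzU⟩⟩
  have hW : IsAffineOpen W := hU.preimage _
  have hgen : genericPoint g.normalization ∈ W :=
    ((genericPoint_spec g.normalization).mem_open_set_iff W.isOpen).mpr ⟨z, trivial, hzU⟩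
  have hgen' : g.toNormalization (IsLocalRing.closedPoint K) ∈ W := by
    rwa [toNormalization_closedPoint g]
  obtain ⟨hinj, hcomp, hiff⟩ := exists_chart φ g hg hU hgen'
  have key : ∀ y, y = g.toNormalization (IsLocalRing.closedPoint K) → ∀ (hy : y ∈ W)
      (w : g.normalization.presheaf.stalk y),
      ((g.normalization.presheaf.germ W y hy).hom.IsIntegralElem w →
        ∃ a, g.normalization.presheaf.germ W y hy a = w) := by
    rintro y rfl hy w ⟨p, hp, hp0⟩
    let θ : Γ(g.normalization, W) →+* K :=
      (g.normalization.presheaf.germ _ _ hgen' ≫ Scheme.stalkClosedPointTo g.toNormalization).hom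
    let ψ := (Scheme.stalkClosedPointTo g.toNormalization).hom
    let _ := (g.fromNormalization.app U).hom.toAlgebra
    let _ : Algebra Γ(g.normalization, W) K := θ.toAlgebra
    let _ : Algebra Γ(X, U) K := (φ.comp (X.germToFunctionField U).hom).toAlgebra
    have : IsScalarTower Γ(X, U) Γ(g.normalization, W) K :=
      IsScalarTower.of_algebraMap_eq fun a => (RingHom.congr_fun hcomp a).symm
    have : Algebra.IsIntegral Γ(X, U) Γ(g.normalization, W) :=
      ⟨g.fromNormalization.isIntegral_app U hU⟩
    have h1 : IsIntegral Γ(g.normalization, W) (ψ w) := by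
      refine ⟨p, hp, ?_⟩
      show Polynomial.eval₂ θ (ψ w) p = 0
      have h2 := (Polynomial.hom_eval₂ p (g.normalization.presheaf.germ W _ hy).hom ψ w).symm
      rw [hp0, map_zero] at h2
      exact h2
    obtain ⟨a, ha⟩ := (hiff (ψ w)).mp (isIntegral_trans (R := Γ(X, U)) (ψ w) h1)
    exact ⟨a, injective_stalkClosedPointTo g ha⟩
  have : IsIntegrallyClosed Γ(g.normalization, W) := by
    have := functionField_isFractionRing_of_isAffineOpen g.normalization W hW
    refine (isIntegrallyClosed_iff g.normalization.functionField).mpr fun {w} hw => ?_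
    exact key _ (toNormalization_closedPoint g).symm hgen w hw
  let _ := TopCat.Presheaf.algebra_section_stalk g.normalization.presheaf (⟨z, hzU⟩ : W)
  have := hW.isLocalization_stalk ⟨z, hzU⟩
  let P := (hW.primeIdealOf ⟨z, hzU⟩).asIdeal
  exact ⟨inferInstance, isIntegrallyClosed_of_isLocalization (g.normalization.presheaf.stalk z)
    P.primeCompl P.primeCompl_le_nonZeroDivisors⟩

include hg in
/-- The function field of the normalization is the algebraic closure of the function field. -/
theorem range_stalkClosedPointTo :
    Set.range (Scheme.stalkClosedPointTo g.toNormalization).hom =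
      {y : K | ∃ q : Polynomial X.functionField, q.Monic ∧ Polynomial.eval₂ φ y q = 0} := by
  obtain ⟨U, hU, hηU, -⟩ := exists_isAffineOpen_mem_and_subset (U := (⊤ : X.Opens))
    (x := genericPoint X) trivial
  have : Nonempty U := ⟨⟨_, hηU⟩⟩
  let W := g.fromNormalization ⁻¹ᵁ U
  have hgenW : genericPoint g.normalization ∈ W := by
    show g.fromNormalization (genericPoint g.normalization) ∈ U
    rwa [fromNormalization_genericPoint φ g hg]
  have : Nonempty W := ⟨⟨_, hgenW⟩⟩
  have hgen' : g.toNormalization (IsLocalRing.closedPoint K) ∈ W := by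
    rwa [toNormalization_closedPoint g]
  obtain ⟨hinj, hcomp, hiff⟩ := exists_chart φ g hg hU hgen'
  let ψ := (Scheme.stalkClosedPointTo g.toNormalization).hom
  have hfrac : ∀ y, y = g.toNormalization (IsLocalRing.closedPoint K) → ∀ (hy : y ∈ W)
      (w : g.normalization.presheaf.stalk y), ∃ a s : Γ(g.normalization, W), s ≠ 0 ∧
        w * g.normalization.presheaf.germ W y hy s = g.normalization.presheaf.germ W y hy a := by
    intro y hy
    rw [toNormalization_closedPoint g] at hy
    subst hy
    intro _ w
    have := functionField_isFractionRing_of_isAffineOpen g.normalization W (hU.preimage _)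
    obtain ⟨⟨a, s⟩, h⟩ := IsLocalization.surj (nonZeroDivisors Γ(g.normalization, W))
      (show g.normalization.functionField from w)
    exact ⟨a, s, nonZeroDivisors.ne_zero s.2, h⟩
  let _ : Algebra X.functionField K := φ.toAlgebra
  let _ : Algebra Γ(X, U) K := (φ.comp (X.germToFunctionField U).hom).toAlgebra
  have : IsScalarTower Γ(X, U) X.functionField K := IsScalarTower.of_algebraMap_eq fun _ => rfl
  have := functionField_isFractionRing_of_isAffineOpen X U hU
  ext y
  constructor
  · rintro ⟨w, rfl⟩
    show IsIntegral X.functionField (ψ w)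
    obtain ⟨a, s, hs, has⟩ := hfrac _ rfl hgen' w
    have hθ : ∀ b : Γ(g.normalization, W),
        IsIntegral X.functionField (ψ (g.normalization.presheaf.germ W _ hgen' b)) := fun b =>
      IsIntegral.tower_top (R := Γ(X, U)) ((hiff _).mpr ⟨b, rfl⟩)
    have hs' : ψ (g.normalization.presheaf.germ W _ hgen' s) ≠ 0 := fun h0 =>
      hs (hinj (h0.trans (map_zero _).symm))
    have : ψ w = ψ (g.normalization.presheaf.germ W _ hgen' a) *
        (ψ (g.normalization.presheaf.germ W _ hgen' s))⁻¹ := by
      rw [eq_mul_inv_iff_mul_eq₀ hs', ← map_mul, has]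
    rw [this]
    exact (hθ a).mul (hθ s).inv
  · intro hy
    change IsIntegral X.functionField y at hy
    obtain ⟨m, hm⟩ := IsIntegral.exists_multiple_integral_of_isLocalization
      (nonZeroDivisors Γ(X, U)) y hy
    obtain ⟨a, ha⟩ := (hiff _).mp hm
    let c := g.normalization.presheaf.germ W _ hgen' (g.fromNormalization.app U m.1)
    have hc : ψ c = φ (X.germToFunctionField U m.1) := RingHom.congr_fun hcomp m.1
    have hm0 : φ (X.germToFunctionField U m.1) ≠ 0 := by
      refine (map_ne_zero φ).mpr ?_
      exact (map_ne_zero_iff _ (IsFractionRing.injective Γ(X, U) X.functionField)).mpr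
        (nonZeroDivisors.ne_zero m.2)
    let _ := (isField_stalk g).toField
    refine ⟨g.normalization.presheaf.germ W _ hgen' a * c⁻¹, ?_⟩
    show ψ _ = y
    rw [map_mul, map_inv₀, hc]
    refine (mul_inv_eq_iff_eq_mul₀ hm0).mpr ?_
    refine ha.trans ?_
    rw [Submonoid.smul_def, Algebra.smul_def, mul_comm]
    rfl

end GrothLib.NormExt8
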